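import Mathlib

set_option autoImplicit false

namespace Cfsg.Agent.Lib.Helper22

open Subgroup

theorem mem_smul_sylow {G : Type*} [Group G] {p : ℕ} (g x : G) (S : Sylow p G) :
    x ∈ (g • S : Sylow p G) ↔ g⁻¹ * x * g ∈ S := by
  show x ∈ ((g • S : Sylow p G) : Subgroup G) ↔ _
  rw [Sylow.coe_subgroup_smul, mem_pointwise_smul_iff_inv_smul_mem]
  simp [MulAut.smul_def]
  rfl

section

variable {G : Type*} [Group G] [Finite G] {p : ℕ} [Fact p.Prime]

theorem bs_step (D : Set G) (hD : ∀ g : G, ∀ d ∈ D, g * d * g⁻¹ ∈ D) (S T : Sylow p G)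
    (d : G) (hdD : d ∈ D) (hdS : d ∈ S) (hdT : d ∉ T) :
    ∃ y ∈ D, y ∈ S ∧ y ∉ T ∧ y ∈ normalizer (D ∩ ((S : Set G) ∩ (T : Set G))) := by
  have hnil : Group.IsNilpotent (S : Subgroup G) := S.2.isNilpotent
  have hNC : NormalizerCondition (S : Subgroup G) := Group.normalizerCondition_of_isNilpotent
  have key : ∀ L : Subgroup (S : Subgroup G),
      (∀ e : (S : Subgroup G), (e : G) ∈ D → (e : G) ∈ T → e ∈ L) →
      (∀ l ∈ L, (l : G) ∈ D → (l : G) ∈ T) →
      ∃ y ∈ D, y ∈ S ∧ y ∉ T ∧ y ∈ normalizer (D ∩ ((S : Set G) ∩ (T : Set G))) := by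
    intro L
    induction L using WellFoundedGT.induction with
    | ind L ih =>
      intro hE hL
      have hLtop : L < ⊤ := by
        refine lt_top_iff_ne_top.2 ?_
        rintro rfl
        exact hdT (hL ⟨d, hdS⟩ (mem_top _) hdD)
      have hlt := hNC L hLtop
      by_cases hcase : ∀ l ∈ normalizer (L : Set (S : Subgroup G)), (l : G) ∈ D → (l : G) ∈ T
      · exact ih _ hlt (fun e h1 h2 => hlt.le (hE e h1 h2)) hcase
      · push Not at hcase
        obtain ⟨y, hyN, hyD, hyT⟩ := hcase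
        have aux : ∀ w ∈ normalizer (L : Set (S : Subgroup G)),
            ∀ e ∈ D ∩ ((S : Set G) ∩ (T : Set G)),
              (w : G) * e * (w : G)⁻¹ ∈ D ∩ ((S : Set G) ∩ (T : Set G)) := by
          rintro w hw e ⟨heD, heS, heT⟩
          have heL : (⟨e, heS⟩ : (S : Subgroup G)) ∈ L := hE ⟨e, heS⟩ heD heT
          have h1 : w * ⟨e, heS⟩ * w⁻¹ ∈ L := (mem_normalizer_iff.1 hw _).1 heL
          exact ⟨hD _ _ heD, (w * ⟨e, heS⟩ * w⁻¹).2, hL _ h1 (hD _ _ heD)⟩
        refine ⟨y, hyD, y.2, hyT, ?_⟩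
        rw [mem_set_normalizer_iff]
        intro h
        refine ⟨fun hh => aux y hyN h hh, fun hh => ?_⟩
        have h2 := aux y⁻¹ (inv_mem hyN) _ hh
        simpa [mul_assoc] using h2
  exact key ((T : Subgroup G).subgroupOf S) (fun e _ h => mem_subgroupOf.2 h)
    (fun l hl _ => mem_subgroupOf.1 hl)

theorem bs_card (D : Set G) (hD : ∀ g : G, ∀ d ∈ D, g * d * g⁻¹ ∈ D) (S T : Sylow p G) :
    (D ∩ (S : Set G)).ncard = (D ∩ (T : Set G)).ncard := by
  obtain ⟨g, rfl⟩ := MulAction.exists_smul_eq G S T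
  have : D ∩ ((g • S : Sylow p G) : Set G) = (fun d => g * d * g⁻¹) '' (D ∩ (S : Set G)) := by
    ext x
    constructor
    · rintro ⟨hxD, hxS⟩
      refine ⟨g⁻¹ * x * g, ⟨?_, (mem_smul_sylow g x S).1 hxS⟩, by group⟩
      simpa using hD g⁻¹ x hxD
    · rintro ⟨d, ⟨hdD, hdS⟩, rfl⟩
      refine ⟨hD g d hdD, (mem_smul_sylow g _ S).2 ?_⟩
      simpa [mul_assoc] using hdS
  rw [this, Set.ncard_image_of_injective]
  intro a b hab
  simpa using hab

/-- **Baer–Suzuki**, set version: a normal set `D` any two of whose elements generate a `p`-group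
meets all Sylow `p`-subgroups in the same set. -/
theorem bs_main (D : Set G) (hD : ∀ g : G, ∀ d ∈ D, g * d * g⁻¹ ∈ D)
    (hpair : ∀ a ∈ D, ∀ b ∈ D, IsPGroup p (closure ({a, b} : Set G))) (S T : Sylow p G) :
    ∀ d ∈ D, d ∈ S → d ∈ T := by
  classical
  by_contra hbad
  let Bad := {ST : Sylow p G × Sylow p G // ¬ ∀ d ∈ D, d ∈ ST.1 → d ∈ ST.2}
  haveI : Nonempty Bad := ⟨⟨(S, T), hbad⟩⟩
  let f : Bad → ℕ := fun ST => (D ∩ ((ST.1.1 : Set G) ∩ (ST.1.2 : Set G))).ncard
  obtain ⟨⟨⟨S₀, T₀⟩, h₀⟩, hmax⟩ := Finite.exists_max f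
  have h₀' := h₀
  simp only at h₀'
  push Not at h₀'
  obtain ⟨d, hdD, hdS, hdT⟩ := h₀'
  have h₁ : ∃ d' ∈ D, d' ∈ T₀ ∧ d' ∉ S₀ := by
    by_contra hcon
    push Not at hcon
    have hsub : D ∩ (T₀ : Set G) ⊆ D ∩ (S₀ : Set G) := fun x hx => ⟨hx.1, hcon x hx.1 hx.2⟩
    have heq := Set.eq_of_subset_of_ncard_le hsub (bs_card D hD S₀ T₀).le (Set.toFinite _)
    have : d ∈ D ∩ (T₀ : Set G) := heq ▸ ⟨hdD, hdS⟩
    exact hdT this.2
  obtain ⟨d', hd'D, hd'T, hd'S⟩ := h₁
  obtain ⟨y, hyD, hyS, hyT, hyN⟩ := bs_step D hD S₀ T₀ d hdD hdS hdT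
  obtain ⟨z, hzD, hzT, hzS, hzN⟩ := bs_step D hD T₀ S₀ d' hd'D hd'T hd'S
  rw [Set.inter_comm (T₀ : Set G) (S₀ : Set G)] at hzN
  set E : Set G := D ∩ ((S₀ : Set G) ∩ (T₀ : Set G)) with hE
  set H := closure E with hH
  have hHS : H ≤ S₀ := (closure_le _).2 fun e he => he.2.1
  have hHp : IsPGroup p H := S₀.2.to_le hHS
  set J := closure ({y, z} : Set G) with hJ
  have hJp : IsPGroup p J := hpair y hyD z hzD
  have hJN : J ≤ normalizer (H : Set G) := by
    rw [hJ, closure_le]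
    rintro w (rfl | rfl)
    · exact normalizer_le_normalizer_closure E hyN
    · exact normalizer_le_normalizer_closure E hzN
  obtain ⟨R, hR⟩ := (hJp.to_sup_of_normal_right' hHp hJN).exists_le_sylow
  have hER : ∀ e ∈ E, e ∈ R := fun e he => hR (le_sup_right (a := J) (subset_closure he))
  have hyR : y ∈ R := hR (le_sup_left (b := H) (subset_closure (by simp)))
  have hzR : z ∈ R := hR (le_sup_left (b := H) (subset_closure (by simp)))
  have hSR : ∀ d ∈ D, d ∈ S₀ → d ∈ R := by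
    by_contra hb
    have h1 := hmax ⟨(S₀, R), hb⟩
    have h2 : E ⊂ D ∩ ((S₀ : Set G) ∩ (R : Set G)) := by
      refine ⟨fun e he => ⟨he.1, he.2.1, hER e he⟩, fun hsub => ?_⟩
      exact hyT (hsub ⟨hyD, hyS, hyR⟩).2.2
    exact absurd (Set.ncard_lt_ncard h2 (Set.toFinite _)) (not_lt.2 h1)
  have hRT : ∀ d ∈ D, d ∈ R → d ∈ T₀ := by
    by_contra hb
    have h1 := hmax ⟨(R, T₀), hb⟩
    have h2 : E ⊂ D ∩ ((R : Set G) ∩ (T₀ : Set G)) := by
      refine ⟨fun e he => ⟨he.1, hER e he, he.2.2⟩, fun hsub => ?_⟩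
      exact hzS (hsub ⟨hzD, hzR, hzT⟩).2.1
    exact absurd (Set.ncard_lt_ncard h2 (Set.toFinite _)) (not_lt.2 h1)
  exact hdT (hRT d hdD (hSR d hdD hdS))

/-- **Baer–Suzuki**: a normal set `D` any two of whose elements generate a `p`-group lies in a
normal `p`-subgroup. -/
theorem bs_normal (D : Set G) (hD : ∀ g : G, ∀ d ∈ D, g * d * g⁻¹ ∈ D)
    (hpair : ∀ a ∈ D, ∀ b ∈ D, IsPGroup p (closure ({a, b} : Set G))) :
    ∃ N : Subgroup G, N.Normal ∧ IsPGroup p N ∧ D ⊆ N := by
  let P : Sylow p G := default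
  refine ⟨(P : Subgroup G).normalCore, inferInstance, P.2.to_le (normalCore_le _), ?_⟩
  intro d hd
  have hall : ∀ e ∈ D, e ∈ P := by
    intro e he
    obtain ⟨S, hS⟩ := (hpair e he e he).exists_le_sylow
    exact bs_main D hD hpair S P e he (hS (subset_closure (by simp)))
  intro g
  exact hall _ (hD g d hd)


/-- **Baer–Suzuki**, subgroup version. -/
theorem bs_subgroup (X : Subgroup G)
    (h : ∀ g : G, IsPGroup p ↥(X ⊔ X.map (MulAut.conj g).toMonoidHom)) :
    ∃ N : Subgroup G, N.Normal ∧ IsPGroup p N ∧ X ≤ N := by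
  obtain ⟨N, hN, hNp, hDN⟩ := bs_normal (p := p) {d : G | ∃ g : G, ∃ x ∈ X, d = g * x * g⁻¹}
    (by
      rintro g' _ ⟨g, x, hx, rfl⟩
      exact ⟨g' * g, x, hx, by group⟩)
    (by
      rintro _ ⟨g, x, hx, rfl⟩ _ ⟨k, y, hy, rfl⟩
      have h1 : IsPGroup p ((X ⊔ X.map (MulAut.conj (g⁻¹ * k)).toMonoidHom).map
          (MulAut.conj g).toMonoidHom) := (h (g⁻¹ * k)).map _
      refine h1.to_le ?_
      rw [closure_le]
      rintro w (rfl | rfl)
      · exact mem_map.2 ⟨x, le_sup_left (a := X) hx, by simp⟩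
      · refine mem_map.2 ⟨g⁻¹ * k * y * (g⁻¹ * k)⁻¹,
          le_sup_right (a := X) (mem_map.2 ⟨y, hy, by simp [mul_assoc]⟩), ?_⟩
        simp [mul_assoc])
  exact ⟨N, hN, hNp, fun x hx => hDN ⟨1, x, hx, by simp⟩⟩

end

/-- An involution lying in no normal 2-subgroup inverts a nontrivial element of odd order. -/
theorem exists_inverted_odd_of_involution {G : Type*} [Group G] [Finite G] (t : G)
    (ht : orderOf t = 2) (hO : ∀ N : Subgroup G, N.Normal → IsPGroup 2 N → t ∉ N) :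
    ∃ h : G, h ≠ 1 ∧ Odd (orderOf h) ∧ t * h * t⁻¹ = h⁻¹ := by
  haveI : Fact (Nat.Prime 2) := ⟨Nat.prime_two⟩
  by_contra hcon
  push Not at hcon
  have htt : t * t = 1 := by rw [← pow_two, ← ht]; exact pow_orderOf_eq_one t
  obtain ⟨N, hN, hNp, hDN⟩ := bs_normal (p := 2) {d : G | ∃ g : G, d = g * t * g⁻¹}
    (by
      rintro g' _ ⟨g, rfl⟩
      exact ⟨g' * g, by group⟩)
    (by
      rintro _ ⟨g, rfl⟩ _ ⟨k, rfl⟩
      set a := g * t * g⁻¹ with ha
      set b := k * t * k⁻¹ with hb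
      clear_value a b
      have haa : a * a = 1 := by
        calc a * a = g * (t * t) * g⁻¹ := by rw [ha]; group
          _ = 1 := by rw [htt]; group
      have hbb : b * b = 1 := by
        calc b * b = k * (t * t) * k⁻¹ := by rw [hb]; group
          _ = 1 := by rw [htt]; group
      have hainv : a⁻¹ = a := inv_eq_of_mul_eq_one_left haa
      have hbinv : b⁻¹ = b := inv_eq_of_mul_eq_one_left hbb
      set r := a * b with hr
      clear_value r
      have hinv : a * r * a⁻¹ = r⁻¹ := by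
        rw [hr, mul_inv_rev, hainv, hbinv, ← mul_assoc, haa, one_mul]
      set n := orderOf r with hn
      have hn0 : n ≠ 0 := (orderOf_pos r).ne'
      set j := n.factorization 2 with hj
      set m := n / 2 ^ j with hm
      have hmn : 2 ^ j * m = n := Nat.ordProj_mul_ordCompl_eq_self n 2
      have hpk0 : 2 ^ j ≠ 0 := (pow_pos (by norm_num) j).ne'
      have how : orderOf (r ^ 2 ^ j) = m := by
        rw [orderOf_pow_of_dvd hpk0 (Dvd.intro _ hmn)]
      have hmodd : Odd m := by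
        rw [← Nat.not_even_iff_odd, even_iff_two_dvd]
        exact Nat.not_dvd_ordCompl Nat.prime_two hn0
      set w := r ^ 2 ^ j with hw
      have hwinv : a * w * a⁻¹ = w⁻¹ := by
        rw [hw, ← conj_pow, hinv, inv_pow]
      have hw1 : w = 1 := by
        by_contra hw1
        have h1 : g⁻¹ * w * g ≠ 1 := by
          intro h2
          apply hw1
          have : w = g * (g⁻¹ * w * g) * g⁻¹ := by group
          rw [this, h2]; group
        have h2 : orderOf (g⁻¹ * w * g) = m := by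
          have := orderOf_injective (MulAut.conj g⁻¹).toMonoidHom (MulAut.conj g⁻¹).injective w
          simpa [how] using this
        apply hcon _ h1 (h2 ▸ hmodd)
        calc t * (g⁻¹ * w * g) * t⁻¹ = g⁻¹ * (a * w * a⁻¹) * g := by rw [ha]; group
          _ = (g⁻¹ * w * g)⁻¹ := by rw [hwinv]; group
      have hm1 : m = 1 := by rw [← how, hw1, orderOf_one]
      have hrp : IsPGroup 2 (zpowers r) := by
        rw [IsPGroup.iff_card]
        exact ⟨j, by rw [Nat.card_zpowers, ← hn, ← hmn, hm1, mul_one]⟩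
      have hap : IsPGroup 2 (zpowers a) := by
        apply IsPGroup.of_card (n := 1)
        rw [Nat.card_zpowers, pow_one]
        apply orderOf_eq_prime
        · rw [pow_two, haa]
        · intro h1
          have : t = g⁻¹ * a * g := by rw [ha]; group
          rw [h1] at this
          have ht1 : t = 1 := by rw [this]; group
          rw [ht1, orderOf_one] at ht
          norm_num at ht
      have hnorm : zpowers a ≤ normalizer (zpowers r : Set G) := by
        rw [zpowers_le, mem_normalizer_iff_map_conj_eq, MonoidHom.map_zpowers]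
        have : (MulAut.conj a : G →* G) r = r⁻¹ := by simpa using hinv
        rw [this, zpowers_inv]
      refine (hap.to_sup_of_normal_right' hrp hnorm).to_le ?_
      rw [closure_le]
      rintro x (hx | hx)
      · rw [hx]
        exact le_sup_left (a := zpowers a) (mem_zpowers a)
      · have hbr : b = a * r := by rw [hr, ← mul_assoc, haa, one_mul]
        rw [Set.mem_singleton_iff.1 hx, SetLike.mem_coe, hbr]
        exact mul_mem (le_sup_left (a := zpowers a) (mem_zpowers a))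
          (le_sup_right (a := zpowers a) (mem_zpowers r)))
  exact hO N hN hNp (hDN ⟨1, by simp⟩)

end Cfsg.Agent.Lib.Helper22
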