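import Cfsg.Agent.Lib.Helper2.BFree10

set_option autoImplicit false
set_option linter.style.haveILetI false
set_option linter.unusedSectionVars false
set_option maxHeartbeats 1000000
open Cfsg
open scoped ComplexConjugate

namespace Cfsg.Agent.Lib.Helper22

open Cfsg.Agent.Lib.Helper2

universe u
variable {G : Type u} [Group G] [Finite G] {p : ℕ} [Fact p.Prime]

/-- A Sylow subgroup of prime order satisfies the free-action hypothesis. -/
theorem freeHyp_of_card_prime (P : Sylow p G) (hP : Nat.card (P : Subgroup G) = p) :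
    FreeHyp P ((Subgroup.centralizer ((P : Subgroup G) : Set G)).relIndex
      (Subgroup.normalizer ((P : Subgroup G) : Set G))) := by
  have hp := (Fact.out : p.Prime)
  have hpow : ∀ y ∈ (P : Subgroup G), y ≠ 1 → ∀ z ∈ (P : Subgroup G), z ∈ Subgroup.zpowers y := by
    intro y hy hy1 z hz
    have h1 : (⟨z, hz⟩ : ↥(P : Subgroup G)) ∈ Subgroup.zpowers (⟨y, hy⟩ : ↥(P : Subgroup G)) :=
      mem_zpowers_of_prime_card hP (fun h0 => hy1 (congrArg Subtype.val h0))
    obtain ⟨n, hn⟩ := h1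
    exact ⟨n, by simpa using congrArg Subtype.val hn⟩
  refine ⟨?_, ?_, rfl, ?_⟩
  · intro a ha b hb
    by_cases ha1 : a = 1
    · rw [ha1]; simp
    · obtain ⟨n, rfl⟩ := hpow a ha ha1 b hb
      exact ((Commute.refl a).zpow_right n).eq
  · intro h
    have h2 : Nat.card (P : Subgroup G) = 1 := h
    rw [hP] at h2
    exact hp.one_lt.ne' h2
  · intro y hy hy1
    apply le_antisymm
    · intro x hx
      rw [Subgroup.mem_inf, Subgroup.mem_centralizer_iff] at hx
      rw [Subgroup.mem_centralizer_iff]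
      intro z hz
      obtain ⟨n, rfl⟩ := hpow y hy hy1 z hz
      have h1 : Commute y x := hx.1 y rfl
      exact (h1.zpow_left n).eq
    · refine le_inf ?_ (Subgroup.centralizer_le_normalizer _)
      apply Subgroup.centralizer_le
      intro z hz
      rw [Set.mem_singleton_iff] at hz
      rw [hz]; exact hy

/-- The degree equation of the principal block for a Sylow subgroup of prime order. -/
theorem brauer_degree_eq (P : Sylow p G) (hP : Nat.card (P : Subgroup G) = p) (m : ℕ)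
    (hidx : (Subgroup.centralizer ((P : Subgroup G) : Set G)).relIndex
      (Subgroup.normalizer ((P : Subgroup G) : Set G)) = m) (hm1 : 1 < m)
    (hm2 : m * (m + 1) + 1 < p) :
    ∃ (X : Finset (IrrCharacter G)) (D : IrrCharacter G → ℤ) (η : IrrCharacter G) (ε : ℤ),
      (ε = 1 ∨ ε = -1) ∧ Helper24.oneIrr G ∈ X ∧ D (Helper24.oneIrr G) = 1 ∧
      (∀ χ ∈ X, D χ ≠ 0 ∧ (p : ℤ) ∣ (charDegree (χ : G → ℂ) : ℤ) - D χ) ∧
      ∑ χ ∈ X, D χ ^ 2 = m ∧
      ∑ χ ∈ X, D χ * (charDegree (χ : G → ℂ) : ℤ) = ε * (charDegree (η : G → ℂ) : ℤ) := by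
  classical
  have hp := (Fact.out : p.Prime)
  obtain ⟨M, hM⟩ := Helper7.exists_isPModular hp
  have h : FreeHyp P m := hidx ▸ freeHyp_of_card_prime P hP
  have hP' : Nat.card P = p := hP
  have hr : m + 1 < Nat.card P := by rw [hP']; nlinarith
  obtain ⟨ε, d, ζ, D, X, Y, hε, hB, hdisj, hmemY, hcard, hζ, hone, hX, hYv, hnorm, hYreg, hrel⟩ :=
    h.core hM hr
  rw [hP'] at hcard
  have hoX := hone (Helper24.oneIrr G) rfl
  -- `|Y| > m + 1`
  have hY : m + 2 ≤ Y.card := by
    by_contra hlt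
    have h1 : Y.card ≤ m + 1 := by omega
    have h2 : Y.card * m ≤ (m + 1) * m := Nat.mul_le_mul_right m h1
    nlinarith
  have hs1 : (1 : ℤ) ≤ ∑ χ ∈ X, D χ ^ 2 := by
    have := Finset.single_le_sum (f := fun χ => D χ ^ 2) (fun i _ => sq_nonneg _) hoX.1
    simp only [hoX.2] at this
    linarith
  have hd : d = 0 := by
    by_contra hd
    have hd2 : 1 ≤ d ^ 2 := by
      have : 0 < d ^ 2 := by positivity
      omega
    have hYz : (m : ℤ) + 2 ≤ (Y.card : ℤ) := by exact_mod_cast hY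
    have h3 : ε * d ≤ d ^ 2 := by
      rcases hε with h0 | h0 <;> rw [h0] <;> nlinarith [sq_nonneg (d - 1), sq_nonneg (d + 1)]
    have hm0 : (0 : ℤ) ≤ m := by positivity
    nlinarith
  obtain ⟨η, hη⟩ : Y.Nonempty := by
    rw [← Finset.card_pos]; omega
  refine ⟨X, D, η, ε, hε, hoX.1, hoX.2, ?_, ?_, ?_⟩
  · intro χ hχ
    refine ⟨(hX χ hχ).1, ?_⟩
    have := card_dvd_degree_sub (P : Subgroup G) χ (D χ) (fun y hy hy1 => by
      refine (hX χ hχ).2 y y ⟨1, mul_one y, Commute.one_right y, ?_, ?_⟩ hy hy1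
      · obtain ⟨k, hk⟩ := P.2 ⟨y, hy⟩
        have h1 : y ^ p ^ k = 1 := by simpa using congrArg Subtype.val hk
        obtain ⟨j, -, hj⟩ := (Nat.dvd_prime_pow hp).1 (orderOf_dvd_of_pow_eq_one h1)
        exact ⟨j, hj⟩
      · rw [orderOf_one]; exact hp.one_lt.ne' ∘ Nat.dvd_one.1)
    rwa [hP] at this
  · rw [hd] at hnorm
    simpa using hnorm
  · have h1 := hrel η hη 1 (by rw [orderOf_one]; exact hp.one_lt.ne' ∘ Nat.dvd_one.1)
    rw [hd] at h1
    have h2 : ((∑ χ ∈ X, D χ * (charDegree (χ : G → ℂ) : ℤ) : ℤ) : ℂ)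
        = ((ε * (charDegree (η : G → ℂ) : ℤ) : ℤ) : ℂ) := by
      push_cast
      rw [Helper7.charDegree_cast (Helper7.isCharacter_of_irr η.2)]
      have h3 : ∑ χ ∈ X, (D χ : ℂ) * (charDegree (χ : G → ℂ) : ℂ)
          = ∑ χ ∈ X, (D χ : ℂ) * (χ : G → ℂ) 1 :=
        Finset.sum_congr rfl fun χ _ => by
          rw [Helper7.charDegree_cast (Helper7.isCharacter_of_irr χ.2)]
      rw [h3]
      linear_combination h1
    exact_mod_cast h2

/-- In a non-abelian simple group a non-principal irreducible character has degree `> 1`. -/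
theorem one_lt_charDegree_of_simple [IsSimpleGroup G] (hG : ¬ (Nat.card G).Prime)
    (χ : IrrCharacter G) (hχ : χ ≠ Helper24.oneIrr G) : 1 < charDegree (χ : G → ℂ) := by
  by_contra hlt
  have hpos := Helper7.charDegree_pos χ
  have h1 : charDegree (χ : G → ℂ) = 1 := by omega
  have h2 : (χ : G → ℂ) 1 = 1 := by
    rw [← Helper7.charDegree_cast (Helper7.isCharacter_of_irr χ.2), h1]; simp
  obtain ⟨lam, hlam⟩ := IsCharacter.exists_hom_of_apply_one (Helper7.isCharacter_of_irr χ.2) h2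
  rcases lam.normal_ker.eq_bot_or_eq_top with hk | hk
  · -- `G` embeds in an abelian group
    apply hG
    have hinj : Function.Injective lam := (MonoidHom.ker_eq_bot_iff lam).1 hk
    letI : CommGroup G := { (inferInstance : Group G) with
      mul_comm := fun a b => hinj (by rw [map_mul, map_mul, mul_comm]) }
    exact IsSimpleGroup.prime_card
  · apply hχ
    apply eq_oneIrr_of_const
    intro g
    have hg : lam g = 1 := by
      have : g ∈ lam.ker := by rw [hk]; exact Subgroup.mem_top g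
      exact this
    rw [hlam g, hg, h2]; simp

/-- Sylow data for a simple group of order `p * M`, `p ∤ M`. -/
theorem sylow_data_of_simple [IsSimpleGroup G] (M : ℕ) (hG : Nat.card G = p * M) (hpM : ¬ p ∣ M)
    (hM1 : M ≠ 1) (P : Sylow p G) :
    Nat.card (P : Subgroup G) = p ∧
    ∃ k m : ℕ, k ∣ M ∧ k % p = 1 ∧ k ≠ 1 ∧ m ∣ M / k ∧ m ∣ p - 1 ∧ m ≠ 1 ∧
      (Subgroup.centralizer ((P : Subgroup G) : Set G)).relIndex
        (Subgroup.normalizer ((P : Subgroup G) : Set G)) = m := by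
  have hp := (Fact.out : p.Prime)
  have hM0 : M ≠ 0 := by
    rintro rfl
    exact hpM (dvd_zero p)
  have hP : Nat.card (P : Subgroup G) = p := by
    have h1 := P.card_eq_multiplicity
    rw [hG, Nat.factorization_mul hp.ne_zero hM0, Finsupp.add_apply, hp.factorization_self,
      Nat.factorization_eq_zero_of_not_dvd hpM, pow_one] at h1
    exact h1
  refine ⟨hP, ?_⟩
  have hidxP : (P : Subgroup G).index = M := by
    have h1 := (P : Subgroup G).card_mul_index
    rw [hP, hG] at h1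
    exact Nat.eq_of_mul_eq_mul_left hp.pos h1
  set N := Subgroup.normalizer ((P : Subgroup G) : Set G) with hN
  set C := Subgroup.centralizer ((P : Subgroup G) : Set G) with hC
  have hfree := freeHyp_of_card_prime P hP
  have hPC : (P : Subgroup G) ≤ C := hfree.le_centralizer
  have hCN : C ≤ N := Subgroup.centralizer_le_normalizer _
  have hk : Nat.card (Sylow p G) = N.index := P.card_eq_index_normalizer
  have hkM : N.index ∣ M := by
    rw [← hk, ← hidxP]; exact P.card_dvd_index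
  have hkp : N.index % p = 1 := by
    have h1 := card_sylow_modEq_one p G
    rw [hk] at h1
    have h2 : 1 % p = 1 := Nat.mod_eq_of_lt hp.one_lt
    rw [← h2]; exact h1
  have hsimple : ∀ K : Subgroup G, K.Normal → Nat.card K = 1 ∨ Nat.card K = p * M := by
    intro K hK
    rcases hK.eq_bot_or_eq_top with h0 | h0
    · left; rw [h0]; exact Subgroup.card_bot
    · right; rw [h0, Subgroup.card_top, hG]
  have hk1 : N.index ≠ 1 := by
    intro h1
    have h2 : N = ⊤ := Subgroup.index_eq_one.1 h1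
    have h3 : (P : Subgroup G).Normal := Subgroup.normalizer_eq_top_iff.1 h2
    rcases hsimple _ h3 with h4 | h4
    · rw [hP] at h4; exact hp.one_lt.ne' h4
    · rw [hP] at h4
      apply hM1
      have : p * 1 = p * M := by rw [mul_one]; exact h4
      exact (Nat.eq_of_mul_eq_mul_left hp.pos this).symm
  have hrel : (P : Subgroup G).relIndex N * N.index = M := by
    rw [Subgroup.relIndex_mul_index (hPC.trans hCN), hidxP]
  have hk0 : 0 < N.index := Nat.pos_of_ne_zero (Subgroup.index_ne_zero_of_finite)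
  have hrel2 : (P : Subgroup G).relIndex N = M / N.index := by
    rw [← hrel, Nat.mul_div_cancel _ hk0]
  refine ⟨N.index, C.relIndex N, hkM, hkp, hk1, ?_, ?_, ?_, rfl⟩
  · rw [← hrel2, ← Subgroup.relIndex_mul_relIndex _ _ _ hPC hCN]
    exact Dvd.intro_left _ rfl
  · have hcyc : IsCyclic (P : Subgroup G) := isCyclic_of_prime_card hP
    have key := Subgroup.card_dvd_of_injective _
      (QuotientGroup.kerLift_injective (P : Subgroup G).normalizerMonoidHom)
    rw [Subgroup.normalizerMonoidHom_ker, ← Subgroup.index, ← Subgroup.relIndex, hcyc.card_mulAut,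
      hP, Nat.totient_prime hp] at key
    exact key
  · intro h1
    have hle : N ≤ C := Subgroup.relIndex_eq_one.1 h1
    have hcomp := MonoidHom.ker_transferSylow_isComplement' P hle
    have h2 := hcomp.card_mul_card
    rw [hP, hG] at h2
    rcases hsimple _ (MonoidHom.normal_ker (MonoidHom.transferSylow P hle)) with h4 | h4
    · rw [h4, one_mul] at h2
      apply hM1
      have : p * 1 = p * M := by rw [mul_one]; exact h2
      exact (Nat.eq_of_mul_eq_mul_left hp.pos this).symm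
    · rw [h4] at h2
      have h5 : p * M * p = p * M * 1 := by rw [mul_one]; exact h2
      have h6 := Nat.eq_of_mul_eq_mul_left (Nat.mul_pos hp.pos (Nat.pos_of_ne_zero hM0)) h5
      exact hp.one_lt.ne' h6

/-- Arithmetic obstruction to the degree equation, case `|N(P) : C(P)| = 2`. -/
abbrev BrauerChk2 (p M : ℕ) : Prop :=
  ∀ f ∈ M.divisors, 1 < f → ∀ a ∈ ({1, -1} : Finset ℤ), ((f : ℤ) - a) % (p : ℤ) = 0 →
    ¬ (1 + a * (f : ℤ)).natAbs ∣ p * M

/-- Arithmetic obstruction to the degree equation, case `|N(P) : C(P)| = 3`. -/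
abbrev BrauerChk3 (p M : ℕ) : Prop :=
  ∀ f ∈ M.divisors, 1 < f → ∀ g ∈ M.divisors, 1 < g →
    ∀ a ∈ ({1, -1} : Finset ℤ), ∀ b ∈ ({1, -1} : Finset ℤ),
      ((f : ℤ) - a) % (p : ℤ) = 0 → ((g : ℤ) - b) % (p : ℤ) = 0 →
        ¬ (1 + a * (f : ℤ) + b * (g : ℤ)).natAbs ∣ p * M

/-- The whole arithmetic check for the order `p * M`. -/
abbrev BrauerChk (p M : ℕ) : Prop :=
  ∀ k ∈ M.divisors, k % p = 1 → k ≠ 1 → ∀ m ∈ (M / k).divisors, m ∣ p - 1 → m ≠ 1 →
    m * (m + 1) + 1 < p ∧ ((m = 2 ∧ BrauerChk2 p M) ∨ (m = 3 ∧ BrauerChk3 p M))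

theorem charDegree_oneIrr : charDegree ((Helper24.oneIrr G : IrrCharacter G) : G → ℂ) = 1 := by
  have h : ((Helper24.oneIrr G : IrrCharacter G) : G → ℂ) = fun _ => 1 := rfl
  rw [h]
  simp [charDegree]

/-- No simple group of order `p * M` when the arithmetic check succeeds. -/
theorem brauer_kill [IsSimpleGroup G] (M : ℕ) (hG : Nat.card G = p * M) (hpM : ¬ p ∣ M)
    (hM1 : M ≠ 1) (hchk : BrauerChk p M) : False := by
  classical
  have hp := (Fact.out : p.Prime)
  have hM0 : M ≠ 0 := by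
    rintro rfl
    exact hpM (dvd_zero p)
  obtain ⟨P⟩ : Nonempty (Sylow p G) := inferInstance
  obtain ⟨hP, k, m, hkM, hkp, hk1, hmk, hmp, hm1, hidx⟩ := sylow_data_of_simple M hG hpM hM1 P
  have hk0 : 0 < k := Nat.pos_of_dvd_of_pos hkM (Nat.pos_of_ne_zero hM0)
  have hMk0 : M / k ≠ 0 := (Nat.div_pos (Nat.le_of_dvd (Nat.pos_of_ne_zero hM0) hkM) hk0).ne'
  obtain ⟨hm2, hcase⟩ := hchk k (Nat.mem_divisors.2 ⟨hkM, hM0⟩) hkp hk1 m
    (Nat.mem_divisors.2 ⟨hmk, hMk0⟩) hmp hm1
  have hm0 : m ≠ 0 := by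
    rintro rfl
    exact hMk0 (Nat.eq_zero_of_zero_dvd hmk)
  have hnp : ¬ (Nat.card G).Prime := by
    rw [hG]
    exact Nat.not_prime_mul hp.one_lt.ne' hM1
  obtain ⟨X, D, η, ε, hε, hoX, hDo, hX, hsq, hdeg⟩ :=
    brauer_degree_eq P hP m hidx (by omega) hm2
  rw [← Finset.add_sum_erase _ _ hoX, hDo] at hsq hdeg
  rw [charDegree_oneIrr] at hdeg
  set X' := X.erase (Helper24.oneIrr G) with hX'
  set e := charDegree (η : G → ℂ) with he
  have heN : e ∣ p * M := hG ▸ Helper7.charDegree_dvd_card η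
  -- data of a member of `X'`
  have hmem : ∀ χ ∈ X', D χ ^ 2 = 1 → charDegree (χ : G → ℂ) ∈ M.divisors ∧
      1 < charDegree (χ : G → ℂ) ∧ D χ ∈ ({1, -1} : Finset ℤ) ∧
      ((charDegree (χ : G → ℂ) : ℤ) - D χ) % (p : ℤ) = 0 := by
    intro χ hχ hD
    have hχX := Finset.mem_of_mem_erase hχ
    have hχ1 := Finset.ne_of_mem_erase hχ
    have hDpm : D χ = 1 ∨ D χ = -1 := by
      have h0 : (D χ - 1) * (D χ + 1) = 0 := by linear_combination hD
      rcases mul_eq_zero.1 h0 with h1 | h1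
      · left; linarith
      · right; linarith
    have hdvd := (hX χ hχX).2
    have hcop : Nat.Coprime (charDegree (χ : G → ℂ)) p := by
      rw [Nat.coprime_comm, hp.coprime_iff_not_dvd]
      intro h1
      have h2 : (p : ℤ) ∣ (charDegree (χ : G → ℂ) : ℤ) := by exact_mod_cast h1
      have h3 : (p : ℤ) ∣ D χ := by
        have := dvd_sub h2 hdvd
        simpa using this
      have h4 : (p : ℤ) ∣ 1 := by
        rcases hDpm with h5 | h5
        · rwa [h5] at h3
        · rw [h5] at h3; simpa using h3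
      have h5 : p ∣ 1 := by exact_mod_cast h4
      exact hp.one_lt.ne' (Nat.dvd_one.1 h5)
    refine ⟨Nat.mem_divisors.2 ⟨?_, hM0⟩, one_lt_charDegree_of_simple hnp χ hχ1, ?_,
      Int.emod_eq_zero_of_dvd hdvd⟩
    · exact hcop.dvd_of_dvd_mul_left (hG ▸ Helper7.charDegree_dvd_card χ)
    · rcases hDpm with h5 | h5 <;> rw [h5] <;> simp
  have hge : ∀ χ ∈ X', 1 ≤ D χ ^ 2 := by
    intro χ hχ
    have h0 := (hX χ (Finset.mem_of_mem_erase hχ)).1
    have : 0 < D χ ^ 2 := by positivity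
    omega
  have hcard : (X'.card : ℤ) ≤ ∑ χ ∈ X', D χ ^ 2 := by
    rw [Finset.card_eq_sum_ones]
    push_cast
    exact Finset.sum_le_sum hge
  have hnat : ∀ z : ℤ, z = ε * (e : ℤ) → z.natAbs = e := by
    intro z hz
    rw [hz]
    rcases hε with h0 | h0 <;> rw [h0] <;> simp
  rcases hcase with ⟨rfl, hc⟩ | ⟨rfl, hc⟩
  · have hs : ∑ χ ∈ X', D χ ^ 2 = 1 := by
      have : (1 : ℤ) ^ 2 + ∑ χ ∈ X', D χ ^ 2 = ((2 : ℕ) : ℤ) := hsq
      push_cast at this
      linarith
    have hc1 : X'.card = 1 := by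
      have h1 : X'.card ≤ 1 := by
        have : (X'.card : ℤ) ≤ 1 := hs ▸ hcard
        exact_mod_cast this
      have h2 : X'.card ≠ 0 := by
        intro h0
        rw [Finset.card_eq_zero.1 h0] at hs
        simp at hs
      omega
    obtain ⟨χ, hχ⟩ := Finset.card_eq_one.1 hc1
    rw [hχ, Finset.sum_singleton] at hs hdeg
    obtain ⟨h1, h2, h3, h4⟩ := hmem χ (by rw [hχ]; exact Finset.mem_singleton_self χ) hs
    apply hc _ h1 h2 _ h3 h4
    rw [hnat _ (by rw [← hdeg]; ring)]
    exact heN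
  · have hs : ∑ χ ∈ X', D χ ^ 2 = 2 := by
      have : (1 : ℤ) ^ 2 + ∑ χ ∈ X', D χ ^ 2 = ((3 : ℕ) : ℤ) := hsq
      push_cast at this
      linarith
    have hc2 : X'.card = 2 := by
      have h1 : X'.card ≤ 2 := by
        have : (X'.card : ℤ) ≤ 2 := hs ▸ hcard
        exact_mod_cast this
      have h2 : X'.card ≠ 0 := by
        intro h0
        rw [Finset.card_eq_zero.1 h0] at hs
        simp at hs
      have h3 : X'.card ≠ 1 := by
        intro h0
        obtain ⟨χ, hχ⟩ := Finset.card_eq_one.1 h0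
        rw [hχ, Finset.sum_singleton] at hs
        have h4 : D χ < 2 := by nlinarith
        have h5 : -2 < D χ := by nlinarith
        interval_cases (D χ) <;> omega
      omega
    obtain ⟨χ, ψ, hne, hχ⟩ := Finset.card_eq_two.1 hc2
    rw [hχ, Finset.sum_pair hne] at hs hdeg
    have hχm : χ ∈ X' := by rw [hχ]; simp
    have hψm : ψ ∈ X' := by rw [hχ]; simp
    have h1χ := hge χ hχm
    have h1ψ := hge ψ hψm
    obtain ⟨h1, h2, h3, h4⟩ := hmem χ hχm (by linarith)
    obtain ⟨g1, g2, g3, g4⟩ := hmem ψ hψm (by linarith)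
    apply hc _ h1 h2 _ g1 g2 _ h3 _ g3 h4 g4
    rw [hnat _ (by rw [← hdeg]; ring)]
    exact heN

end Cfsg.Agent.Lib.Helper22
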