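import Mathlib
import Cfsg.Agent.Lib.Helper1.Index
import Cfsg.Agent.Lib.Helper1.Frattini
import Cfsg.Agent.Lib.Helper14.Class2
import Cfsg.Agent.S0093
import Cfsg.Agent.S0121

set_option autoImplicit false

namespace Cfsg.Agent.Lib.Helper22

open scoped commutatorElement

universe u

/-- Wielandt: a `p`-element of `p`-power index has all its conjugates in every Sylow
`p`-subgroup containing it; more precisely every conjugate is a conjugate under `S`. -/
theorem exists_sylow_conj_of_index_pow {G : Type*} [Group G] [Finite G] {p : ℕ} [Fact p.Prime]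
    (S : Sylow p G) (x : G) (a : ℕ)
    (hidx : (Subgroup.centralizer ({x} : Set G)).index = p ^ a) (g : G) :
    ∃ s ∈ S, g * x * g⁻¹ = s * x * s⁻¹ := by
  have hcop : (S : Subgroup G).index.Coprime (Subgroup.centralizer ({x} : Set G)).index := by
    rw [hidx]
    exact Nat.Coprime.pow_right _
      (Nat.Coprime.symm ((Fact.out : p.Prime).coprime_iff_not_dvd.2 S.not_dvd_index))
  obtain ⟨s, hs, c, hc, rfl⟩ := Helper1.exists_mul_of_coprime_index _ _ hcop g
  refine ⟨s, hs, ?_⟩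
  have hcx : c * x * c⁻¹ = x := by
    rw [Subgroup.mem_centralizer_singleton_iff] at hc
    rw [hc, mul_assoc, mul_inv_cancel, mul_one]
  calc s * c * x * (s * c)⁻¹ = s * (c * x * c⁻¹) * s⁻¹ := by group
    _ = s * x * s⁻¹ := by rw [hcx]

theorem conj_mem_sylow_of_index_pow {G : Type*} [Group G] [Finite G] {p : ℕ} [Fact p.Prime]
    (S : Sylow p G) (x : G) (hx : x ∈ S) (a : ℕ)
    (hidx : (Subgroup.centralizer ({x} : Set G)).index = p ^ a) (g : G) : g * x * g⁻¹ ∈ S := by
  obtain ⟨s, hs, h⟩ := exists_sylow_conj_of_index_pow S x a hidx g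
  rw [h]
  exact S.mul_mem (S.mul_mem hs hx) (S.inv_mem hs)

/-- If `α x = x w`, `α w = w`, `α ^ n = 1` with `n` prime to `p` and `w` a `p`-element then
`w = 1`. -/
theorem eq_one_of_aut_eq_mul {G : Type*} [Group G] {p : ℕ} (α : MulAut G) (x w : G)
    (h1 : α x = x * w) (h2 : α w = w) (n : ℕ) (hn : α ^ n = 1) (hcop : n.Coprime p)
    (hw : ∃ k : ℕ, w ^ p ^ k = 1) : w = 1 := by
  have key : ∀ m : ℕ, (α ^ m) x = x * w ^ m := by
    intro m
    induction m with
    | zero => simp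
    | succ m ih =>
      rw [pow_succ', MulAut.mul_apply, ih, map_mul, map_pow, h1, h2, pow_succ', mul_assoc]
  have h3 : w ^ n = 1 := by
    have := key n
    rw [hn, MulAut.one_apply] at this
    exact (mul_eq_left.1 this.symm)
  obtain ⟨k, hk⟩ := hw
  have h4 : orderOf w ∣ 1 := by
    rw [← Nat.Coprime.gcd_eq_one (Nat.Coprime.pow_right k hcop)]
    exact Nat.dvd_gcd (orderOf_dvd_of_pow_eq_one h3) (orderOf_dvd_of_pow_eq_one hk)
  exact orderOf_eq_one_iff.1 (Nat.dvd_one.1 h4)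

/-- A `p'`-automorphism of a `p`-group is detected on an invariant subgroup of exponent `p`
(or `4` when `p = 2`). -/
theorem exists_small_exponent {Q : Type*} [Group Q] [Finite Q] {p : ℕ} [Fact p.Prime]
    (hQ : IsPGroup p Q) (α : MulAut Q) (hα : (orderOf α).Coprime p) :
    ∃ D : Subgroup Q, (∀ x ∈ D, α x ∈ D) ∧ (∀ x ∈ D, x ^ (if p = 2 then 4 else p) = 1) ∧
      ((∀ x ∈ D, α x = x) → α = 1) := by
  classical
  have hp : p.Prime := Fact.out
  obtain ⟨H, hchar, h1, h2, h3⟩ := Cfsg.Agent.S0093.result hQ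
  set e : ℕ := if p = 2 then 4 else p with he
  have hpe : p ∣ e := by
    rw [he]; split_ifs with h
    · rw [h]; norm_num
    · exact dvd_rfl
  have hpch : p ∣ e.choose 2 := by
    rw [he]; split_ifs with h
    · rw [h]; decide
    · exact hp.dvd_choose_self (by norm_num) (lt_of_le_of_ne hp.two_le (Ne.symm h))
  have hHp : IsPGroup p H := hQ.to_subgroup H
  -- facts in `H`
  have hc : ∀ a b : H, ⁅a, b⁆ ∈ Subgroup.center H := by
    intro a b
    rw [Subgroup.mem_center_iff]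
    intro g
    have hm : ⁅(a : Q), (b : Q)⁆ ∈ ⁅H, (⊤ : Subgroup Q)⁆ :=
      Subgroup.commutator_mem_commutator a.2 (Subgroup.mem_top _)
    have hm2 : ⁅(a : Q), (b : Q)⁆ ∈ Subgroup.centralizer (H : Set Q) := (Subgroup.mem_inf.1 (h2 hm)).2
    rw [Subgroup.mem_centralizer_iff] at hm2
    apply Subtype.ext
    exact hm2 g g.2
  have hpc : ∀ a : H, a ^ p ∈ Subgroup.center H := by
    intro a
    rw [Subgroup.mem_center_iff]
    intro g
    have hm : ((a ^ p : H) : Q) ∈ (frattini H).map H.subtype :=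
      ⟨a ^ p, Helper1.pgroup_pow_mem_frattini hHp a, rfl⟩
    have hm2 := h1 hm
    rw [Subgroup.mem_centralizer_iff] at hm2
    apply Subtype.ext
    exact hm2 g g.2
  have hcp : ∀ a b : H, ⁅a, b⁆ ^ p = 1 := by
    intro a b
    rw [← Helper14.comm_pow_left a b (hc a b) p]
    rw [commutatorElement_eq_one_iff_mul_comm]
    exact (Subgroup.mem_center_iff.1 (hpc a) b).symm
  have hmul : ∀ a b : H, (a * b) ^ e = a ^ e * b ^ e := by
    intro a b
    rw [Helper14.mul_pow_class2 a b (hc b a) e]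
    obtain ⟨k, hk⟩ := hpch
    rw [hk, pow_mul, hcp, one_pow, mul_one]
  have hmulQ : ∀ x ∈ H, ∀ z ∈ H, (x * z) ^ e = x ^ e * z ^ e := fun x hx z hz =>
    congrArg Subtype.val (hmul ⟨x, hx⟩ ⟨z, hz⟩)
  have hpQ : ∀ x ∈ H, ∀ z ∈ H, z * x ^ p = x ^ p * z := fun x hx z hz =>
    congrArg Subtype.val (Subgroup.mem_center_iff.1 (hpc ⟨x, hx⟩) ⟨z, hz⟩)
  have hαH : ∀ x ∈ H, α x ∈ H := by
    intro x hx
    have := hchar.fixed α
    rw [← this] at hx
    have h5 : α⁻¹ x ∈ H ↔ x ∈ H := by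
      have h6 := hchar.fixed α⁻¹
      constructor
      · intro h; rw [← h6]; exact h
      · intro h; rw [← h6] at h; exact h
    exact hx
  let D : Subgroup Q :=
    { carrier := {x | x ∈ H ∧ x ^ e = 1}
      one_mem' := ⟨H.one_mem, one_pow _⟩
      mul_mem' := by
        rintro a b ⟨ha, ha2⟩ ⟨hb, hb2⟩
        exact ⟨H.mul_mem ha hb, by rw [hmulQ a ha b hb, ha2, hb2, one_mul]⟩
      inv_mem' := by
        rintro a ⟨ha, ha2⟩
        exact ⟨H.inv_mem ha, by rw [inv_pow, ha2, inv_one]⟩ }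
  refine ⟨D, ?_, fun x hx => hx.2, ?_⟩
  · rintro x ⟨hx, hx2⟩
    exact ⟨hαH x hx, by rw [← map_pow, hx2, map_one]⟩
  · intro hfix
    have hpow : α ^ orderOf α = 1 := pow_orderOf_eq_one α
    -- central elements
    have step1 : ∀ k : ℕ, ∀ c ∈ H, (∀ z ∈ H, z * c = c * z) → c ^ p ^ k = 1 → α c = c := by
      intro k
      induction k with
      | zero =>
        intro c _ _ hck
        rw [pow_zero, pow_one] at hck
        rw [hck, map_one]
      | succ k ih =>
        intro c hcH hcc hck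
        have h5 : α (c ^ p) = c ^ p := by
          apply ih (c ^ p) (H.pow_mem hcH p)
          · intro z hz
            exact ((Commute.pow_right (show Commute z c from hcc z hz) p)).eq
          · rw [← pow_mul, ← pow_succ']; exact hck
        have hcomm : Commute c⁻¹ (α c) := by
          have : Commute (α c) c := hcc _ (hαH c hcH)
          exact (this.inv_right).symm
        have hw : (c⁻¹ * α c) ^ p = 1 := by
          rw [hcomm.mul_pow, ← map_pow, h5, inv_pow, inv_mul_cancel]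
        have hwD : c⁻¹ * α c ∈ D := by
          refine ⟨H.mul_mem (H.inv_mem hcH) (hαH c hcH), ?_⟩
          obtain ⟨j, hj⟩ := hpe
          rw [hj, pow_mul, hw, one_pow]
        have h6 := eq_one_of_aut_eq_mul (p := p) α c (c⁻¹ * α c) (by group) (hfix _ hwD) _ hpow hα
          ⟨1, by rw [pow_one]; exact hw⟩
        exact (inv_mul_eq_one.1 h6).symm
    have step2 : ∀ x ∈ H, α x = x := by
      intro x hx
      have hxe : ∀ z ∈ H, z * x ^ e = x ^ e * z := by
        intro z hz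
        obtain ⟨j, hj⟩ := hpe
        rw [hj, pow_mul]
        exact ((Commute.pow_right (show Commute z (x ^ p) from hpQ x hx z hz) j)).eq
      obtain ⟨k, hk⟩ := hQ (x ^ e)
      have h5 : α (x ^ e) = x ^ e := step1 k _ (H.pow_mem hx e) hxe hk
      have hw : (x⁻¹ * α x) ^ e = 1 := by
        rw [hmulQ _ (H.inv_mem hx) _ (hαH x hx), ← map_pow, h5, inv_pow, inv_mul_cancel]
      have hwD : x⁻¹ * α x ∈ D := ⟨H.mul_mem (H.inv_mem hx) (hαH x hx), hw⟩
      have h6 := eq_one_of_aut_eq_mul (p := p) α x (x⁻¹ * α x) (by group) (hfix _ hwD) _ hpow hα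
        (hQ _)
      exact (inv_mul_eq_one.1 h6).symm
    exact Cfsg.Agent.S0121.result hQ H hchar h1 h2 h3 α hα step2

theorem index_centralizer_mk_dvd {G : Type*} [Group G] [Finite G] (Z : Subgroup G) [Z.Normal]
    (x : G) :
    (Subgroup.centralizer ({(x : G ⧸ Z)} : Set (G ⧸ Z))).index ∣
      (Subgroup.centralizer ({x} : Set G)).index := by
  rw [← Subgroup.index_comap_of_surjective _ (QuotientGroup.mk'_surjective Z)]
  apply Subgroup.index_dvd_of_le
  intro c hc
  rw [Subgroup.mem_comap, Subgroup.mem_centralizer_singleton_iff]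
  rw [Subgroup.mem_centralizer_singleton_iff] at hc
  show (c : G ⧸ Z) * x = x * c
  rw [← QuotientGroup.mk_mul, hc, QuotientGroup.mk_mul]

/-- A minimal normal subgroup which is a `p`-group and contains a nontrivial element of
`p`-power index is central. -/
theorem le_center_of_minimal_of_index_pow {G : Type*} [Group G] [Finite G] {p : ℕ} [Fact p.Prime]
    (S : Sylow p G) (Z : Subgroup G) [hZn : Z.Normal] (hZS : Z ≤ S)
    (hmin : ∀ Y : Subgroup G, Y.Normal → Y ≤ Z → Y ≠ ⊥ → Y = Z)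
    (z : G) (hz : z ∈ Z) (hz1 : z ≠ 1) (a : ℕ)
    (hidx : (Subgroup.centralizer ({z} : Set G)).index = p ^ a) : Z ≤ Subgroup.center G := by
  classical
  haveI : Group.IsNilpotent (S : Subgroup G) := S.2.isNilpotent
  obtain ⟨n, hn⟩ := Group.IsNilpotent.nilpotent (S : Subgroup G)
  let Pr : ℕ → Prop := fun j => ∀ w (hw : w ∈ Z),
    (⟨w, hZS hw⟩ : (S : Subgroup G)) ∈ Subgroup.upperCentralSeries (S : Subgroup G) j
  have hPr : ∃ j, Pr j := ⟨n, fun w hw => by rw [hn]; trivial⟩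
  have hfind := Nat.find_spec hPr
  have hi0 : Nat.find hPr ≠ 0 := by
    intro h0
    rw [h0] at hfind
    have := hfind z hz
    rw [Subgroup.upperCentralSeries_zero, Subgroup.mem_bot] at this
    exact hz1 (congrArg Subtype.val this)
  obtain ⟨j, hj⟩ := Nat.exists_eq_succ_of_ne_zero hi0
  have hnot : ¬ Pr j := Nat.find_min hPr (by rw [hj]; exact Nat.lt_succ_self j)
  rw [hj] at hfind
  let W : Subgroup G := ((Subgroup.upperCentralSeries (S : Subgroup G) j).map
    (S : Subgroup G).subtype) ⊓ Z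
  have hWZ : W.normalCore ≠ Z := by
    intro h
    apply hnot
    intro w hw
    rw [← h] at hw
    have h1 := (Subgroup.mem_inf.1 (W.normalCore_le hw)).1
    obtain ⟨w', hw', hww⟩ := h1
    have : w' = ⟨w, hZS (h ▸ hw)⟩ := Subtype.ext hww
    rw [← this]; exact hw'
  have hY : W.normalCore = ⊥ := by
    by_contra hne
    exact hWZ (hmin _ inferInstance (W.normalCore_le.trans inf_le_right) hne)
  have hcen : ∀ g : G, g * z * g⁻¹ = z := by
    intro g
    have hd : z⁻¹ * (g * z * g⁻¹) ∈ W.normalCore := by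
      intro h
      obtain ⟨s₁, hs₁, e₁⟩ := exists_sylow_conj_of_index_pow S z a hidx h
      obtain ⟨s₂, hs₂, e₂⟩ := exists_sylow_conj_of_index_pow S z a hidx (h * g)
      have hz₁ : (s₁ * z * s₁⁻¹)⁻¹ ∈ Z := Z.inv_mem (hZn.conj_mem z hz s₁)
      have e3 : h * (z⁻¹ * (g * z * g⁻¹)) * h⁻¹ =
          ⁅(s₁ * z * s₁⁻¹)⁻¹, s₂ * s₁⁻¹⁆ := by
        calc h * (z⁻¹ * (g * z * g⁻¹)) * h⁻¹ = (h * z * h⁻¹)⁻¹ * (h * g * z * (h * g)⁻¹) := by group
          _ = (s₁ * z * s₁⁻¹)⁻¹ * (s₂ * z * s₂⁻¹) := by rw [e₁, e₂]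
          _ = _ := by rw [commutatorElement_def]; group
      rw [e3]
      show _ ∈ W
      rw [Subgroup.mem_inf]
      constructor
      · have h5 := hfind _ hz₁
        rw [Subgroup.mem_upperCentralSeries_succ_iff] at h5
        exact ⟨_, h5 ⟨s₂ * s₁⁻¹, S.mul_mem hs₂ (S.inv_mem hs₁)⟩, rfl⟩
      · rw [commutatorElement_def]
        have h6 : (s₂ * s₁⁻¹) * ((s₁ * z * s₁⁻¹)⁻¹)⁻¹ * (s₂ * s₁⁻¹)⁻¹ ∈ Z :=
          hZn.conj_mem _ (Z.inv_mem hz₁) _
        have h7 := Z.mul_mem hz₁ h6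
        simpa [mul_assoc] using h7
    rw [hY, Subgroup.mem_bot] at hd
    exact (inv_mul_eq_one.1 hd).symm
  have hzc : z ∈ Subgroup.center G := by
    rw [Subgroup.mem_center_iff]
    intro g
    calc g * z = (g * z * g⁻¹) * g := by group
      _ = z * g := by rw [hcen]
  have h8 : Z ⊓ Subgroup.center G = Z := by
    apply hmin _ inferInstance inf_le_left
    intro h
    have : z ∈ Z ⊓ Subgroup.center G := Subgroup.mem_inf.2 ⟨hz, hzc⟩
    rw [h, Subgroup.mem_bot] at this
    exact hz1 this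
  exact inf_eq_left.1 h8

theorem centralizes_of_ppow_index_aux {p : ℕ} [Fact p.Prime] (n : ℕ) :
    ∀ (G : Type u) [Group G] [Finite G], Nat.card G = n → ∀ (D : Subgroup G) (y : G),
      IsPGroup p D → (∀ x ∈ D, y * x * y⁻¹ ∈ D) → (orderOf y).Coprime p →
      (∀ x ∈ D, ∃ a : ℕ, (Subgroup.centralizer ({x} : Set G)).index = p ^ a) →
      ∀ x ∈ D, y * x * y⁻¹ = x := by
  classical
  induction n using Nat.strong_induction_on with
  | _ n ih =>
  intro G _ _ hcard D y hD hinv hy hidx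
  by_cases hbot : D = ⊥
  · intro x hx
    rw [hbot, Subgroup.mem_bot] at hx
    rw [hx]; group
  obtain ⟨S, hDS⟩ := hD.exists_le_sylow
  let T : Subgroup G := (S : Subgroup G).normalCore
  have hDT : D ≤ T := by
    intro x hx g
    obtain ⟨a, ha⟩ := hidx x hx
    exact conj_mem_sylow_of_index_pow S x (hDS hx) a ha g
  have hTS : T ≤ S := Subgroup.normalCore_le _
  have hTbot : T ≠ ⊥ := by
    intro h
    apply hbot
    rw [eq_bot_iff, ← h]; exact hDT
  obtain ⟨Z, hZ⟩ := Set.Finite.exists_minimal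
    (s := {Z : Subgroup G | Z.Normal ∧ Z ≠ ⊥ ∧ Z ≤ T}) (Set.toFinite _)
    ⟨T, inferInstance, hTbot, le_rfl⟩
  haveI hZn : Z.Normal := hZ.prop.1
  have hZbot : Z ≠ ⊥ := hZ.prop.2.1
  have hZT : Z ≤ T := hZ.prop.2.2
  have hmin : ∀ Y : Subgroup G, Y.Normal → Y ≤ Z → Y ≠ ⊥ → Y = Z := by
    intro Y hYn hYZ hYbot
    exact le_antisymm hYZ (hZ.le_of_le ⟨hYn, hYbot, hYZ.trans hZT⟩ hYZ)
  have hlt : Nat.card (G ⧸ Z) < n := by
    have h1 := Subgroup.card_eq_card_quotient_mul_card_subgroup Z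
    have h2 : 1 < Nat.card Z := by
      rcases Nat.lt_or_ge 1 (Nat.card Z) with h | h
      · exact h
      · exfalso
        have : Nat.card Z = 1 := le_antisymm h Nat.card_pos
        exact hZbot (Subgroup.card_eq_one.1 this)
    rw [← hcard, h1]
    have h3 : 0 < Nat.card (G ⧸ Z) := Nat.card_pos
    nlinarith
  have hq := ih _ hlt (G ⧸ Z) rfl (D.map (QuotientGroup.mk' Z)) (y : G ⧸ Z) (hD.map _)
    (by
      rintro _ ⟨x, hx, rfl⟩
      exact ⟨y * x * y⁻¹, hinv x hx, rfl⟩)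
    (Nat.Coprime.coprime_dvd_left (orderOf_map_dvd (QuotientGroup.mk' Z) y) hy)
    (by
      rintro _ ⟨x, hx, rfl⟩
      obtain ⟨a, ha⟩ := hidx x hx
      have := index_centralizer_mk_dvd Z x
      rw [ha] at this
      obtain ⟨b, _, hb⟩ := (Nat.dvd_prime_pow (Fact.out : p.Prime)).1 this
      exact ⟨b, hb⟩)
  have hw : ∀ x ∈ D, x⁻¹ * (y * x * y⁻¹) ∈ Z ⊓ D := by
    intro x hx
    rw [Subgroup.mem_inf]
    refine ⟨?_, D.mul_mem (D.inv_mem hx) (hinv x hx)⟩
    have := hq (x : G ⧸ Z) ⟨x, hx, rfl⟩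
    rw [← QuotientGroup.eq_one_iff, QuotientGroup.mk_mul, QuotientGroup.mk_inv]
    rw [inv_mul_eq_one]
    exact this.symm
  by_cases hZD : Z ⊓ D = ⊥
  · intro x hx
    have := hw x hx
    rw [hZD, Subgroup.mem_bot] at this
    exact (inv_mul_eq_one.1 this).symm
  · obtain ⟨⟨z, hz⟩, hz1⟩ := (Subgroup.ne_bot_iff_exists_ne_one).1 hZD
    have hz1' : z ≠ 1 := fun h => hz1 (Subtype.ext h)
    rw [Subgroup.mem_inf] at hz
    obtain ⟨a, ha⟩ := hidx z hz.2
    have hZc : Z ≤ Subgroup.center G :=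
      le_center_of_minimal_of_index_pow S Z (hZT.trans hTS) hmin z hz.1 hz1' a ha
    intro x hx
    have hwx := Subgroup.mem_inf.1 (hw x hx)
    have hwc := Subgroup.mem_center_iff.1 (hZc hwx.1) y
    have h6 := eq_one_of_aut_eq_mul (p := p) (MulAut.conj y) x (x⁻¹ * (y * x * y⁻¹))
      (by rw [MulAut.conj_apply]; group)
      (by rw [MulAut.conj_apply, hwc, mul_assoc, mul_inv_cancel, mul_one]) (orderOf y)
      (by rw [← map_pow, pow_orderOf_eq_one, map_one]) hy
      (by
        obtain ⟨k, hk⟩ := hD ⟨_, hwx.2⟩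
        exact ⟨k, congrArg Subtype.val hk⟩)
    exact (inv_mul_eq_one.1 h6).symm

/-- Let `D` be a `p`-subgroup all of whose elements have `p`-power index in `G`.  Then every
`p'`-element normalizing `D` centralizes `D`. -/
theorem centralizes_of_ppow_index {G : Type u} [Group G] [Finite G] {p : ℕ} [Fact p.Prime]
    (D : Subgroup G) (y : G) (hD : IsPGroup p D) (hinv : ∀ x ∈ D, y * x * y⁻¹ ∈ D)
    (hy : (orderOf y).Coprime p)
    (hidx : ∀ x ∈ D, ∃ a : ℕ, (Subgroup.centralizer ({x} : Set G)).index = p ^ a) :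
    ∀ x ∈ D, y * x * y⁻¹ = x :=
  centralizes_of_ppow_index_aux _ G rfl D y hD hinv hy hidx

end Cfsg.Agent.Lib.Helper22
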